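import Cfsg.Agent.Mrg.Omega.VP
import Cfsg.Agent.Mrg.Omega.BTwo.Str
import Cfsg.Agent.Lib.CoprimeStab
import Cfsg.Agent.Mrg.Omega.NO3b.EZeroBase

section


/-!
# Groups generated by elements of odd order acting on 2-groups

`E` is generated by elements of odd order (`E ≤ oddGen E`), `X` is a 2-group normalised by `E`.
-/

set_option autoImplicit false

namespace Cfsg.Agent.Omega.NO3S.NotFF

open Subgroup Cfsg Cfsg.Agent.ZN Cfsg.Agent.MinSimple.VModule
open scoped commutatorElement Pointwise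

variable {G : Type*} [Group G]

theorem le_normalizer_of_forall {A B : Subgroup G} (h : ∀ a ∈ A, ∀ x ∈ B, a * x * a⁻¹ ∈ B) :
    A ≤ normalizer (B : Set G) := by
  intro a ha
  rw [mem_normalizer_iff]
  refine fun x => ⟨h a ha x, fun hx => ?_⟩
  have h1 := h a⁻¹ (inv_mem ha) _ hx
  have e : a⁻¹ * (a * x * a⁻¹) * a⁻¹⁻¹ = x := by group
  rwa [e] at h1

theorem conj_mem {A B : Subgroup G} (h : A ≤ normalizer (B : Set G)) {a x : G} (ha : a ∈ A) (hx : x ∈ B) :
    a * x * a⁻¹ ∈ B := (mem_normalizer_iff.1 (h ha) x).1 hx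

theorem comm_mem_right {A B : Subgroup G} (h : A ≤ normalizer (B : Set G)) {a x : G} (ha : a ∈ A) (hx : x ∈ B) :
    ⁅a, x⁆ ∈ B := by
  rw [commutatorElement_def]
  exact mul_mem (conj_mem h ha hx) (inv_mem hx)

theorem comm_mem_left {A B : Subgroup G} (h : A ≤ normalizer (B : Set G)) {a x : G} (ha : a ∈ A) (hx : x ∈ B) :
    ⁅x, a⁆ ∈ B := by
  rw [commutatorElement_def]
  have e : x * a * x⁻¹ * a⁻¹ = x * (a * x⁻¹ * a⁻¹) := by group
  rw [e]
  exact mul_mem hx (conj_mem h ha (inv_mem hx))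

theorem normalizer_inf {A B C : Subgroup G} (h1 : A ≤ normalizer (B : Set G)) (h2 : A ≤ normalizer (C : Set G)) :
    A ≤ normalizer ((B ⊓ C : Subgroup G) : Set G) :=
  le_normalizer_of_forall fun _ ha _ hx => ⟨conj_mem h1 ha hx.1, conj_mem h2 ha hx.2⟩

theorem normalizer_sup {A B C : Subgroup G} (h1 : A ≤ normalizer (B : Set G)) (h2 : A ≤ normalizer (C : Set G)) :
    A ≤ normalizer ((B ⊔ C : Subgroup G) : Set G) := by
  refine le_normalizer_of_forall fun a ha x hx => ?_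
  have h3 : (B ⊔ C) ≤ (B ⊔ C).comap (MulAut.conj a).toMonoidHom := by
    refine sup_le (fun b hb => ?_) (fun c hc => ?_)
    · exact mem_sup_left (conj_mem h1 ha hb)
    · exact mem_sup_right (conj_mem h2 ha hc)
  exact h3 hx

theorem normalizer_centralizer {A B : Subgroup G} (h : A ≤ normalizer (B : Set G)) :
    A ≤ normalizer ((centralizer (B : Set G) : Subgroup G) : Set G) := by
  refine le_normalizer_of_forall fun a ha x hx => mem_centralizer_iff.2 fun b hb => ?_
  have h1 := mem_centralizer_iff.1 hx (a⁻¹ * b * a) (by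
    have := conj_mem h (inv_mem ha) hb
    rwa [inv_inv] at this)
  calc b * (a * x * a⁻¹) = a * ((a⁻¹ * b * a) * x) * a⁻¹ := by group
    _ = a * (x * (a⁻¹ * b * a)) * a⁻¹ := by rw [h1]
    _ = a * x * a⁻¹ * b := by group

theorem normalizer_commutator {A B C : Subgroup G} (h1 : A ≤ normalizer (B : Set G))
    (h2 : A ≤ normalizer (C : Set G)) : A ≤ normalizer ((⁅B, C⁆ : Subgroup G) : Set G) := by
  refine le_normalizer_of_forall fun a ha x hx => ?_
  have h3 : ⁅B, C⁆ ≤ (⁅B, C⁆).comap (MulAut.conj a).toMonoidHom := by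
    rw [commutator_le]
    intro b hb c hc
    change (MulAut.conj a) ⁅b, c⁆ ∈ ⁅B, C⁆
    rw [map_commutatorElement]
    exact commutator_mem_commutator (conj_mem h1 ha hb) (conj_mem h2 ha hc)
  exact h3 hx

theorem le_normalizer_bot (A : Subgroup G) : A ≤ normalizer ((⊥ : Subgroup G) : Set G) :=
  le_normalizer_of_forall fun a _ x hx => by
    rw [mem_bot.1 hx, mul_one, mul_inv_cancel]
    exact one_mem _

/-- `[X, E] ≤ Y` iff `E` centralises `X / Y`; enough to check on the elements of odd order. -/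
theorem commutator_le_of_odd [Finite G] {E X Y : Subgroup G} (hE : E ≤ oddGen E) (hX : IsPGroup 2 X)
    (hEX : E ≤ normalizer (X : Set G)) (hEY : E ≤ normalizer (Y : Set G)) (hXY : X ≤ normalizer (Y : Set G))
    (h : ⁅⁅X, E⁆, E⁆ ≤ Y) : ⁅X, E⁆ ≤ Y := by
  -- the elements of `E` which centralise `X` modulo `Y`
  set H := normalizer (Y : Set G) with hH
  have hYn : (Y.subgroupOf H).Normal := normal_subgroupOf_of_le_normalizer le_rfl
  let π := QuotientGroup.mk' (Y.subgroupOf H)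
  have key : ∀ x (hx : x ∈ X) e (he : e ∈ E), Odd (orderOf e) →
      Commute (π ⟨x, hXY hx⟩) (π ⟨e, hEY he⟩) := by
    intro x hx e he ho
    have h1 : ⁅x, e⁆ ∈ X := comm_mem_left hEX he hx
    have h2 : (orderOf (π ⟨e, hEY he⟩)).Coprime (Nat.card ((X.subgroupOf H).map π)) := by
      have h3 : orderOf (π ⟨e, hEY he⟩) ∣ orderOf e := by
        have := orderOf_map_dvd π ⟨e, hEY he⟩
        rwa [orderOf_mk] at this
      have h4 : IsPGroup 2 ((X.subgroupOf H).map π) := (hX.comap_of_injective _ H.subtype_injective).map _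
      obtain ⟨n, hn⟩ := IsPGroup.iff_card.1 h4
      rw [hn]
      exact Nat.Coprime.pow_right n (Nat.Coprime.coprime_dvd_left h3 (Nat.coprime_two_right.2 ho))
    refine Lib.CoprimeStab.commute_of_commutator_commute h2 ?_ ?_
    · rw [← map_commutatorElement]
      exact mem_map_of_mem π (mem_subgroupOf.2 h1)
    · have h5 : ⁅⁅x, e⁆, e⁆ ∈ Y := h (commutator_mem_commutator (commutator_mem_commutator hx he) he)
      rw [← map_commutatorElement, ← commutatorElement_eq_one_iff_commute, ← map_commutatorElement]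
      exact (QuotientGroup.eq_one_iff _).2 (mem_subgroupOf.2 h5)
  rw [commutator_le]
  intro x hx e he
  have h6 : ∀ e (he : e ∈ E), Commute (π ⟨x, hXY hx⟩) (π ⟨e, hEY he⟩) := by
    intro e he
    have h7 : e ∈ closure {y : G | y ∈ E ∧ Odd (orderOf y)} := hE he
    have h8 : closure {y : G | y ∈ E ∧ Odd (orderOf y)} ≤
        ((centralizer {π ⟨x, hXY hx⟩}).comap π).map H.subtype := by
      rw [closure_le]
      rintro y ⟨hy, ho⟩
      refine ⟨⟨y, hEY hy⟩, ?_, rfl⟩
      change π ⟨y, hEY hy⟩ ∈ centralizer {π ⟨x, hXY hx⟩}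
      rw [mem_centralizer_singleton_iff]
      exact (key x hx y hy ho).symm.eq
    obtain ⟨y, hy, hye⟩ := h8 h7
    have h9 : y = ⟨e, hEY he⟩ := Subtype.ext hye
    subst h9
    exact (mem_centralizer_singleton_iff.1 hy).symm
  have h10 := h6 e he
  rw [← commutatorElement_eq_one_iff_commute, ← map_commutatorElement] at h10
  exact mem_subgroupOf.1 ((QuotientGroup.eq_one_iff _).1 h10)

/-- `[X, E, E] = 1` implies `[X, E] = 1`. -/
theorem le_centralizer_of_commutator [Finite G] {E X : Subgroup G} (hE : E ≤ oddGen E) (hX : IsPGroup 2 X)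
    (hEX : E ≤ normalizer (X : Set G)) (h : ⁅X, E⁆ ≤ centralizer (E : Set G)) : X ≤ centralizer (E : Set G) := by
  have h1 : ⁅⁅X, E⁆, E⁆ ≤ ⊥ := (commutator_eq_bot_iff_le_centralizer.2 h).le
  have h2 := commutator_le_of_odd hE hX hEX (Y := ⊥) (le_normalizer_bot E) (le_normalizer_bot X) h1
  exact commutator_eq_bot_iff_le_centralizer.1 (le_bot_iff.1 h2)

/-- `[X, E, E] = [X, E]`. -/
theorem commutator_commutator_eq [Finite G] {E X : Subgroup G} (hE : E ≤ oddGen E) (hX : IsPGroup 2 X)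
    (hEX : E ≤ normalizer (X : Set G)) (hXE : X ≤ normalizer (E : Set G)) : ⁅⁅X, E⁆, E⁆ = ⁅X, E⁆ := by
  apply le_antisymm
  · rw [commutator_le]
    intro x hx e he
    exact comm_mem_left (normalizer_commutator hEX le_normalizer) he hx
  · exact commutator_le_of_odd hE hX hEX
      (normalizer_commutator (normalizer_commutator hEX le_normalizer) le_normalizer)
      (normalizer_commutator (normalizer_commutator le_normalizer hXE) hXE) le_rfl

end Cfsg.Agent.Omega.NO3S.NotFF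

end

section


/-!
# THEOREM K0 (helper706, #14028), part 1: the abstract situation

`V` (a line) is normal in `L`, `T ≤ L ∩ X` is a Sylow 2-subgroup of the minimal parabolic `X ≤ C_G(F)`,
`V ∩ V^x = F` for `x ∈ X - N(V)`, `V` is not FF, two conjugates of `V` which meet nontrivially commute, `Q₀ ≤ T`
is the set of 2-elements of `L` which centralise `V`, no nontrivial 2-subgroup is normalised by `L` and `X`.

* `Base V F T X L Q0` : this situation (no `J`, no `Z`, no characteristic 2);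
* `NoOv X` : no over-offenders on the noncentral chief factors of `X`;
* `FullOff T X` : the conclusion of the FF theorem which is used at the end.
-/

set_option autoImplicit false

namespace Cfsg.Agent.Omega.NO3b.K0

open Subgroup Cfsg Cfsg.Agent.ZN Cfsg.Agent.ZN.ChoiceBase Cfsg.Agent.ZN.ChoiceSit
open Cfsg.Agent.MinSimple.MinParabolic (IsMinPar)
open Cfsg.Agent.MinSimple.VModule (oddGen oddGen_le mem_oddGen le_normalizer_oddGen oddGen_le_of_sup)
open Cfsg.Agent.Omega.NO3b.EZero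
open scoped commutatorElement

universe u

variable {G : Type u} [Group G]

/-- The abstract situation of THEOREM K0, (A1)-(A5). -/
structure Base (V F T X L Q0 : Subgroup G) : Prop where
  sq : ∀ v ∈ V, v ^ 2 = 1
  comm : V ≤ centralizer (V : Set G)
  nff : NotFF V
  F_le : F ≤ V
  F_ne : F ≠ V
  F_ne_bot : F ≠ ⊥
  X_le : X ≤ centralizer (F : Set G)
  syl : Syl T X
  mp : IsMinPar T X
  nle : ¬ X ≤ normalizer (V : Set G)
  T_le : T ≤ L
  L_le : L ≤ normalizer (V : Set G)
  Q0_le : Q0 ≤ T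
  L_Q0 : L ≤ normalizer (Q0 : Set G)
  Q0_cent : Q0 ≤ centralizer (V : Set G)
  le_Q0 : ∀ R : Subgroup G, IsPGroup 2 R → R ≤ L → R ≤ centralizer (V : Set G) → R ≤ Q0
  V_le : V ≤ Q0
  line : ∀ x ∈ X, x ∉ normalizer (V : Set G) → V ⊓ cj x V = F
  ti : ∀ g : G, V ⊓ cj g V ≠ ⊥ → V ≤ centralizer ((cj g V : Subgroup G) : Set G)
  nonloc : ∀ R : Subgroup G, IsPGroup 2 R → L ≤ normalizer (R : Set G) → X ≤ normalizer (R : Set G) → R = ⊥

/-- No over-offenders on the noncentral chief factors `Y / N` of `X` (`Y` an elementary abelian normal subgroup):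
`|A : A ∩ O₂(X)| ≤ |Y : D|` for `[D, A] ≤ N`, `A O₂(X) / O₂(X)` elementary abelian. -/
def NoOv (X : Subgroup G) : Prop :=
  ∀ N Y A D : Subgroup G, N ≤ Y → Y ≤ X → (∀ y ∈ Y, y ^ 2 = 1) → Y ≤ centralizer (Y : Set G) →
    X ≤ normalizer (N : Set G) → X ≤ normalizer (Y : Set G) →
    (∀ K : Subgroup G, N ≤ K → K ≤ Y → X ≤ normalizer (K : Set G) → K = N ∨ K = Y) →
    ¬ ⁅Y, oddGen X⁆ ≤ N → A ≤ X → (∀ a ∈ A, a ^ 2 ∈ o2 X) →
    (∀ a ∈ A, ∀ b ∈ A, a * b * a⁻¹ * b⁻¹ ∈ o2 X) → D ≤ Y → ⁅D, A⁆ ≤ N →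
    (o2 X).relIndex A ≤ D.relIndex Y

/-- The consequence of the FF theorem used in the last step: `Y = [Y, O²(X)]` is an elementary abelian normal
subgroup of `X` centralised by `O₂(X)`, its proper `X`-invariant subgroups are centralised by `O²(X)`; if `A ≤ T`
is an exact offender on `Y` and on `Y / C_Y(O²(X))`, then some element of `C_Y(T)` is moved by `O²(X)`. -/
def FullOff (T X : Subgroup G) : Prop :=
  ∀ Y A : Subgroup G, Y ≤ X → (∀ y ∈ Y, y ^ 2 = 1) → Y ≤ centralizer (Y : Set G) →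
    X ≤ normalizer (Y : Set G) → o2 X ≤ centralizer (Y : Set G) → ⁅Y, oddGen X⁆ = Y → Y ≠ ⊥ →
    (∀ K : Subgroup G, K ≤ Y → X ≤ normalizer (K : Set G) → K ≠ Y → K ≤ centralizer (oddGen X : Set G)) →
    A ≤ T → (∀ a ∈ A, a ^ 2 ∈ o2 X) → (∀ a ∈ A, ∀ b ∈ A, a * b * a⁻¹ * b⁻¹ ∈ o2 X) → ¬ A ≤ o2 X →
    (∀ y ∈ Y, (∀ a ∈ A, ⁅y, a⁆ ∈ centralizer (oddGen X : Set G)) → y ∈ centralizer (A : Set G)) →
    (o2 X).relIndex A = (centralizer (A : Set G)).relIndex Y →
    ∃ y ∈ Y, y ∈ centralizer (T : Set G) ∧ y ∉ centralizer (oddGen X : Set G)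

end Cfsg.Agent.Omega.NO3b.K0

end

section


/-!
# THEOREM K0, part 2: `U = ⟨V^X⟩`, `Q = O₂(X)`, `E = O²(X)`
-/

set_option autoImplicit false

namespace Cfsg.Agent.Omega.NO3b.K0

open Subgroup Cfsg Cfsg.Agent.ZN Cfsg.Agent.ZN.ChoiceBase Cfsg.Agent.ZN.ChoiceSit
open Cfsg.Agent.MinSimple.MinParabolic (IsMinPar)
open Cfsg.Agent.MinSimple.VModule (oddGen oddGen_le mem_oddGen le_normalizer_oddGen oddGen_le_of_sup)
open Cfsg.Agent.Omega.NO3b.EZero
open scoped commutatorElement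

universe u

variable {G : Type u} [Group G]

theorem cj_bot' (g : G) : cj g (⊥ : Subgroup G) = ⊥ := Subgroup.map_bot _

theorem conj_mem' {A B : Subgroup G} (h : A ≤ normalizer (B : Set G)) {a b : G} (ha : a ∈ A) (hb : b ∈ B) :
    a * b * a⁻¹ ∈ B := (mem_normalizer_iff.1 (h ha) b).1 hb

theorem cj_of_le {A B : Subgroup G} (h : A ≤ normalizer (B : Set G)) {a : G} (ha : a ∈ A) : cj a B = B :=
  cj_eq_of_mem_normalizer (h ha)

theorem cj_self {A : Subgroup G} {a : G} (ha : a ∈ A) : cj a A = A := cj_of_le le_normalizer ha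

/-- `E ≤ oddGen E` for `E = oddGen X` -/
theorem oddGen_oddGen (X : Subgroup G) : oddGen X ≤ oddGen (oddGen X) := by
  have : {x : G | x ∈ X ∧ Odd (orderOf x)} ⊆ (oddGen (oddGen X) : Set G) := fun x hx =>
    mem_oddGen (mem_oddGen hx.1 hx.2) hx.2
  exact (closure_le _).2 this

/-- A 2-subgroup `R` of `X` which lies in a normal subgroup `K` of `X` with `K ∩ T ≤ O₂(X)` lies in `O₂(X)`. -/
theorem le_o2_of_inf [Finite G] {T X K R : Subgroup G} (hT : Syl T X) (hK : X ≤ normalizer (K : Set G))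
    (hKT : T ⊓ K ≤ o2 X) (hR : IsPGroup 2 R) (hRX : R ≤ X) (hRK : R ≤ K) : R ≤ o2 X := by
  obtain ⟨T', hT', hRT⟩ := exists_syl hR hRX
  obtain ⟨x, hx, hxT⟩ := syl_conj hT hT'
  have h1 : cj x⁻¹ R ≤ T ⊓ K := by
    refine le_inf ?_ ?_
    · have h2 := cj_mono x⁻¹ hRT
      rwa [← hxT, cj_inv_cj] at h2
    · have h2 := cj_mono x⁻¹ hRK
      rwa [cj_of_le hK (inv_mem hx)] at h2
  have h3 := cj_mono x (h1.trans hKT)
  rwa [cj_cj_inv, cj_of_le (ChoiceSit.le_normalizer_o2 X) hx] at h3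

namespace Base

variable {V F T X L Q0 : Subgroup G} (h : Base V F T X L Q0)
include h

theorem T_norm : T ≤ normalizer (V : Set G) := h.T_le.trans h.L_le

theorem isPGroup_T : IsPGroup 2 T := h.syl.2.1

theorem T_le_X : T ≤ X := h.syl.1

theorem V_le_X : V ≤ X := h.V_le.trans (h.Q0_le.trans h.T_le_X)

theorem Q0_X : Q0 ≤ X := h.Q0_le.trans h.T_le_X

theorem cj_F {x : G} (hx : x ∈ X) : cj x F = F :=
  cj_eq_of_mem_normalizer (centralizer_le_normalizer _ (h.X_le hx))

theorem F_le_line {x : G} (hx : x ∈ X) : F ≤ cj x V := by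
  have h1 := cj_mono x h.F_le
  rwa [h.cj_F hx] at h1

theorem cj_L {l : G} (hl : l ∈ L) : cj l V = V := cj_of_le h.L_le hl

theorem cj_Q0 {l : G} (hl : l ∈ L) : cj l Q0 = Q0 := cj_of_le h.L_Q0 hl

theorem ti' {a b : G} (hD : cj a V ⊓ cj b V ≠ ⊥) : cj a V ≤ centralizer ((cj b V : Subgroup G) : Set G) := by
  have h1 := h.ti (a⁻¹ * b) (by
    intro h0
    apply hD
    have h1 := congrArg (cj a) h0
    rw [cj_inf, cj_cj, mul_inv_cancel_left] at h1
    rw [h1, cj_bot'])
  have h2 := cj_cent (g := a) h1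
  rwa [cj_cj, mul_inv_cancel_left] at h2

/-- `V^x ∩ V^y = F` -/
theorem line' {x y : G} (hx : x ∈ X) (hy : y ∈ X) (hne : cj x V ≠ cj y V) : cj x V ⊓ cj y V = F := by
  have h1 := h.line (x⁻¹ * y) (mul_mem (inv_mem hx) hy) (fun h0 => hne (by
    have h2 := congrArg (cj x) (mem_normalizer_iff_cj.1 h0)
    rw [cj_cj, mul_inv_cancel_left] at h2
    exact h2.symm))
  have h2 := congrArg (cj x) h1
  rw [cj_inf, cj_cj, mul_inv_cancel_left, h.cj_F hx] at h2
  exact h2

theorem lines_comm {x y : G} (hx : x ∈ X) (hy : y ∈ X) :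
    cj x V ≤ centralizer ((cj y V : Subgroup G) : Set G) :=
  h.ti' fun h0 => h.F_ne_bot (le_bot_iff.1 ((le_inf (h.F_le_line hx) (h.F_le_line hy)).trans h0.le))

theorem U_comm : cl V X ≤ centralizer (cl V X : Set G) :=
  cl_le fun _ hx => cent_symm (cl_le fun _ hy => h.lines_comm hy hx)

theorem cj_sq (g : G) : ∀ v ∈ cj g V, v ^ 2 = 1 := by
  intro v hv
  have h1 := h.sq _ (mem_cj.1 hv)
  have e : v ^ 2 = g * (g⁻¹ * v * g) ^ 2 * g⁻¹ := by rw [pow_two, pow_two]; group
  rw [e, h1]; group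

theorem U_sq : ∀ u ∈ cl V X, u ^ 2 = 1 :=
  sq_of_comm h.U_comm (fun i : X => cj_le_cl i.2) le_rfl fun i => h.cj_sq i

theorem isPGroup_U : IsPGroup 2 (cl V X) := fun x => ⟨1, Subtype.ext (by simpa using h.U_sq x x.2)⟩

theorem isPGroup_V : IsPGroup 2 V := h.isPGroup_U.to_le (le_cl V X)

theorem U_le_X : cl V X ≤ X := cl_le fun x hx => by
  have h1 := cj_mono x h.V_le_X
  rwa [cj_self hx] at h1

variable [Finite G]

theorem U_le_o2 : cl V X ≤ o2 X := ChoiceSit.le_o2 h.isPGroup_U h.U_le_X (le_normalizer_cl V X)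

theorem o2_le_T : o2 X ≤ T := o2_le_syl h.syl

omit h in
theorem isPGroup_o2' : IsPGroup 2 (o2 X) := ChoiceSit.isPGroup_o2 X

theorem o2_norm_line {x : G} (hx : x ∈ X) : o2 X ≤ normalizer ((cj x V : Subgroup G) : Set G) := by
  have h1 := cj_norm (g := x) (h.o2_le_T.trans h.T_norm)
  rwa [cj_of_le (ChoiceSit.le_normalizer_o2 X) hx] at h1

/-- **(MIN)** -/
theorem min_or {K : Subgroup G} (hK : K ≤ X) (hKn : X ≤ normalizer (K : Set G)) :
    oddGen X ≤ K ∨ T ⊓ K ≤ o2 X := by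
  have : Fact (Nat.Prime 2) := ⟨Nat.prime_two⟩
  rcases h.mp.sup_eq_or_inf_le h.isPGroup_T (syl_not_dvd h.syl) hK hKn with h1 | h1
  · exact Or.inl (oddGen_le_of_sup hKn h1.ge h.T_le_X hK h.isPGroup_T)
  · exact Or.inr h1

theorem sup_T : oddGen X ⊔ T = X := oddGen_sup_syl h.syl

theorem oddGen_nle : ¬ oddGen X ≤ normalizer (V : Set G) := by
  intro h0
  apply h.nle
  rw [← h.sup_T]
  exact sup_le h0 h.T_norm

theorem inf_cent_oddGen : V ⊓ centralizer (oddGen X : Set G) = F := by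
  apply le_antisymm
  · have h1 := h.oddGen_nle
    rw [SetLike.not_le_iff_exists] at h1
    obtain ⟨x, hx, hxV⟩ := h1
    rw [← h.line x (oddGen_le X hx) hxV]
    refine le_inf inf_le_left ?_
    intro v hv
    have h2 := mem_centralizer_iff.1 hv.2 x hx
    rw [mem_cj, mul_assoc, ← h2, inv_mul_cancel_left]
    exact hv.1
  · exact le_inf h.F_le ((cent_symm h.X_le).trans (centralizer_le (oddGen_le X)))

/-- 2-subgroups of `X` which centralise an `X`-invariant subgroup not centralised by `O²(X)` lie in `O₂(X)` -/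
theorem le_o2_of_cent {Y R : Subgroup G} (hY : X ≤ normalizer (Y : Set G))
    (hE : ¬ Y ≤ centralizer (oddGen X : Set G)) (hR : IsPGroup 2 R) (hRX : R ≤ X)
    (hRY : R ≤ centralizer (Y : Set G)) : R ≤ o2 X := by
  have h1 := le_normalizer_inf_cent hY
  rcases h.min_or inf_le_left h1 with h2 | h2
  · exact absurd (cent_symm (h2.trans inf_le_right)) hE
  · exact le_o2_of_inf h.syl h1 h2 hR hRX (le_inf hRX hRY)

theorem U_not_cent : ¬ cl V X ≤ centralizer (oddGen X : Set G) := by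
  intro h0
  apply h.F_ne
  rw [← h.inf_cent_oddGen]
  exact inf_eq_left.2 ((le_cl V X).trans h0)

theorem le_o2_of_cent_U {R : Subgroup G} (hR : IsPGroup 2 R) (hRX : R ≤ X)
    (hRU : R ≤ centralizer (cl V X : Set G)) : R ≤ o2 X :=
  h.le_o2_of_cent (le_normalizer_cl V X) h.U_not_cent hR hRX hRU

end Base

end Cfsg.Agent.Omega.NO3b.K0

end

section


/-!
# THEOREM K0, part 3: critical pairs

The element `g` stands for the pair of points `(X, X^g)` whose first line is `V` and whose last line is `V^g`.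

* `Wk X L n g` : `g ∈ L (X L)^n`;
* `Crit V X Q0 g` : `[U, U^g] ≠ 1`, `U ≤ Q₀^g`, `U^g ≤ Q₀`;
* `Base.exists_crit`, `Crit.inv`;
* `Crit.norm` : two lines which do not commute do not normalise each other (either way);
* `Crit.inf_le` : `V^x ∩ U^g ≤ F` if `V^x` does not centralise `U^g`;
* `Crit.comm_le` : `[U, U^g ∩ Q] ≤ F`; `Crit.inf_F` : `F ∩ F^g = 1`; `Crit.comm_E` : `[U ∩ Q^g, U^g ∩ Q] = 1`.
-/

set_option autoImplicit false

namespace Cfsg.Agent.Omega.NO3b.K0

open Subgroup Cfsg Cfsg.Agent.ZN Cfsg.Agent.ZN.ChoiceBase Cfsg.Agent.ZN.ChoiceSit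
open Cfsg.Agent.MinSimple.MinParabolic (IsMinPar)
open Cfsg.Agent.MinSimple.VModule (oddGen oddGen_le mem_oddGen le_normalizer_oddGen oddGen_le_of_sup)
open Cfsg.Agent.Omega.NO3b.EZero
open scoped commutatorElement

universe u

variable {G : Type u} [Group G]

/-- `g ∈ L (X L)^n` -/
inductive Wk (X L : Subgroup G) : ℕ → G → Prop
  | base {l : G} : l ∈ L → Wk X L 0 l
  | step {n : ℕ} {g x l : G} : Wk X L n g → x ∈ X → l ∈ L → Wk X L (n + 1) (g * x * l)

theorem Wk.left {X L : Subgroup G} {n : ℕ} {g : G} (h : Wk X L n g) {l x : G} (hl : l ∈ L) (hx : x ∈ X) :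
    Wk X L (n + 1) (l * x * g) := by
  induction h with
  | base hl' => exact (Wk.base hl).step hx hl'
  | step _ hx' hl' ih =>
    have h1 := ih.step hx' hl'
    simpa only [mul_assoc] using h1

theorem Wk.inv {X L : Subgroup G} {n : ℕ} {g : G} (h : Wk X L n g) : Wk X L n g⁻¹ := by
  induction h with
  | base hl => exact Wk.base (inv_mem hl)
  | @step n g x l _ hx' hl' ih =>
    have h1 := ih.left (inv_mem hl') (inv_mem hx')
    have e : (g * x * l)⁻¹ = l⁻¹ * x⁻¹ * g⁻¹ := by group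
    rw [e]; exact h1

theorem Wk.cover {X L : Subgroup G} {h : G} (hh : h ∈ X ⊔ L) :
    h ∈ X ∨ ∃ n g, ∃ x ∈ X, ∃ y ∈ X, Wk X L n g ∧ h = x * g * y := by
  rw [← closure_eq X, ← closure_eq L, ← Subgroup.closure_union] at hh
  have key : ∀ a b : G, (a ∈ X ∨ ∃ n g, ∃ x ∈ X, ∃ y ∈ X, Wk X L n g ∧ a = x * g * y) →
      (b ∈ X ∨ b ∈ L) → (a * b ∈ X ∨ ∃ n g, ∃ x ∈ X, ∃ y ∈ X, Wk X L n g ∧ a * b = x * g * y) := by
    rintro a b (ha | ⟨n, g, x, hx, y, hy, hg, rfl⟩) (hb | hb)
    · exact Or.inl (mul_mem ha hb)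
    · exact Or.inr ⟨0, b, a, ha, 1, one_mem _, Wk.base hb, by rw [mul_one]⟩
    · exact Or.inr ⟨n, g, x, hx, y * b, mul_mem hy hb, hg, by group⟩
    · exact Or.inr ⟨n + 1, g * y * b, x, hx, 1, one_mem _, hg.step hy hb, by group⟩
  induction hh using Subgroup.closure_induction_right with
  | one => exact Or.inl (one_mem _)
  | mul_right x hx y hy ih => exact key x y ih hy
  | mul_inv_cancel x hx y hy ih =>
    refine key x y⁻¹ ih ?_
    rcases hy with hy | hy
    · exact Or.inl (inv_mem hy)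
    · exact Or.inr (inv_mem hy)

/-- a critical pair -/
structure Crit (V X Q0 : Subgroup G) (g : G) : Prop where
  ncomm : ¬ cl V X ≤ centralizer ((cj g (cl V X) : Subgroup G) : Set G)
  le1 : cl V X ≤ cj g Q0
  le2 : cj g (cl V X) ≤ Q0

theorem Crit.inv {V X Q0 : Subgroup G} {g : G} (c : Crit V X Q0 g) : Crit V X Q0 g⁻¹ := by
  refine ⟨fun h0 => c.ncomm ?_, ?_, ?_⟩
  · have h1 := cj_cent (g := g) h0
    rw [cj_cj_inv] at h1
    exact cent_symm h1
  · rw [← cj_le_iff]; exact c.le2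
  · rw [cj_le_iff, inv_inv]; exact c.le1

namespace Base

variable {V F T X L Q0 : Subgroup G} (h : Base V F T X L Q0)
include h

theorem le_cj_Q0_of {k : G} {R : Subgroup G} (hR : IsPGroup 2 R) (h1 : R ≤ cj k L)
    (h2 : R ≤ centralizer ((cj k V : Subgroup G) : Set G)) : R ≤ cj k Q0 := by
  have h3 := h.le_Q0 (cj k⁻¹ R) (isPGroup_cj _ hR) (by
    have := cj_mono k⁻¹ h1
    rwa [cj_inv_cj] at this) (by
    have := cj_cent (g := k⁻¹) h2
    rwa [cj_inv_cj] at this)
  have h4 := cj_mono k h3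
  rwa [cj_cj_inv] at h4

variable [Finite G]

theorem le_cj_o2 {k : G} {R : Subgroup G} (hR : IsPGroup 2 R) (h1 : R ≤ cj k X)
    (h2 : R ≤ centralizer ((cj k (cl V X) : Subgroup G) : Set G)) : R ≤ cj k (o2 X) := by
  have h3 := h.le_o2_of_cent_U (R := cj k⁻¹ R) (isPGroup_cj _ hR) (by
    have := cj_mono k⁻¹ h1
    rwa [cj_inv_cj] at this) (by
    have := cj_cent (g := k⁻¹) h2
    rwa [cj_inv_cj] at this)
  have h4 := cj_mono k h3
  rwa [cj_cj_inv] at h4

theorem le_cj_Q0 {n : ℕ} {g : G} (hg : Wk X L n g)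
    (hm : ∀ m < n, ∀ k, Wk X L m k → cl V X ≤ centralizer ((cj k (cl V X) : Subgroup G) : Set G)) :
    cl V X ≤ cj g Q0 := by
  induction hg with
  | base hl =>
    rw [h.cj_Q0 hl]
    exact h.le_Q0 _ h.isPGroup_U (h.U_le_o2.trans (h.o2_le_T.trans h.T_le))
      (cent_symm ((le_cl V X).trans h.U_comm))
  | @step n g x l hg hx hl ih =>
    have h1 := ih fun m hmn k hk => hm m (by omega) k hk
    have h2 := hm n (by omega) g hg
    have h3 := h.le_cj_o2 h.isPGroup_U (h1.trans (cj_mono g h.Q0_X)) h2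
    have h4 : cj g (o2 X) = cj (g * x) (o2 X) := by
      rw [← cj_cj, cj_of_le (ChoiceSit.le_normalizer_o2 X) hx]
    rw [h4] at h3
    have h5 : cl V X ≤ cj (g * x) Q0 := by
      refine h.le_cj_Q0_of h.isPGroup_U (h3.trans (cj_mono _ (h.o2_le_T.trans h.T_le))) ?_
      refine h2.trans (centralizer_le ?_)
      have h6 := cj_mono g (cj_le_cl (V := V) hx)
      rwa [cj_cj] at h6
    rwa [← cj_cj, h.cj_Q0 hl]

omit [Finite G] in
/-- `C_{V^x}(w) ≤ F` for `w ∈ X - N(V^x)` -/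
theorem cent_le {x w : G} (hx : x ∈ X)
    (hw : w ∈ X) (hn : w ∉ normalizer ((cj x V : Subgroup G) : Set G)) {v : G} (hv : v ∈ cj x V)
    (hc : v * w = w * v) : v ∈ F := by
  have h1 : cj (w * x) V ≠ cj x V := by
    intro h0
    rw [← cj_cj] at h0
    exact hn (mem_normalizer_iff_cj.2 h0)
  rw [← h.line' (mul_mem hw hx) hx h1]
  refine ⟨?_, hv⟩
  change v ∈ cj (w * x) V
  rw [← cj_cj, mem_cj, mul_assoc, hc, inv_mul_cancel_left]
  exact hv

omit [Finite G] in
theorem V_ne_bot : V ≠ ⊥ := fun h0 => h.F_ne_bot (le_bot_iff.1 (h.F_le.trans h0.le))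

theorem exists_crit : ∃ g, Crit V X Q0 g := by
  have hex : ∃ n, ∃ g, Wk X L n g ∧ ¬ cl V X ≤ centralizer ((cj g (cl V X) : Subgroup G) : Set G) := by
    by_contra hcon
    push Not at hcon
    have h1 : ∀ k ∈ X ⊔ L, cl V X ≤ centralizer ((cj k (cl V X) : Subgroup G) : Set G) := by
      intro k hk
      rcases Wk.cover hk with hk | ⟨n, g, x, hx, y, hy, hg, rfl⟩
      · rw [cj_cl hk]; exact h.U_comm
      · have h2 := cj_cent (g := x) (hcon n g hg)
        rw [cj_cl hx] at h2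
        rwa [← cj_cj, cj_cl hy, ← cj_cj]
    have hc : cl (cl V X) (X ⊔ L) ≤ centralizer ((cl (cl V X) (X ⊔ L) : Subgroup G) : Set G) := by
      refine cl_le fun a ha => cent_symm (cl_le fun b hb => ?_)
      have h2 := cj_cent (g := b) (h1 (b⁻¹ * a) (mul_mem (inv_mem hb) ha))
      rwa [cj_cj, mul_inv_cancel_left] at h2
    have hsq : ∀ w ∈ cl (cl V X) (X ⊔ L), w ^ 2 = 1 :=
      sq_of_comm hc (fun i : (X ⊔ L : Subgroup G) => cj_le_cl i.2) le_rfl fun i v hv => by
        have h1 := h.U_sq _ (mem_cj.1 hv)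
        have e : v ^ 2 = (i : G) * ((i : G)⁻¹ * v * i) ^ 2 * (i : G)⁻¹ := by rw [pow_two, pow_two]; group
        rw [e, h1]; group
    have h2 := h.nonloc _ (fun x => ⟨1, Subtype.ext (by simpa using hsq x x.2)⟩)
      (le_sup_right.trans (le_normalizer_cl _ _)) (le_sup_left.trans (le_normalizer_cl _ _))
    exact h.V_ne_bot (le_bot_iff.1 (((le_cl V X).trans (le_cl _ _)).trans h2.le))
  classical
  obtain ⟨g, hg, hne⟩ := Nat.find_spec hex
  have hm : ∀ m < Nat.find hex, ∀ k, Wk X L m k →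
      cl V X ≤ centralizer ((cj k (cl V X) : Subgroup G) : Set G) := by
    intro m hmn k hk
    by_contra h0
    exact Nat.find_min hex hmn ⟨k, hk, h0⟩
  refine ⟨g, hne, h.le_cj_Q0 hg hm, ?_⟩
  rw [cj_le_iff]
  exact h.le_cj_Q0 hg.inv hm

end Base

namespace Crit

variable {V F T X L Q0 : Subgroup G} {g : G} (c : Crit V X Q0 g) (h : Base V F T X L Q0)
include c h

/-- `U^g ≤ X` -/
theorem le_X : cj g (cl V X) ≤ X := c.le2.trans h.Q0_X

theorem le_T : cj g (cl V X) ≤ T := c.le2.trans h.Q0_le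

/-- `U ≤ X^g` -/
theorem le_cj_X : cl V X ≤ cj g X := c.le1.trans (cj_mono g h.Q0_X)

/-- `U` normalises `U^g` -/
theorem U_norm : cl V X ≤ normalizer ((cj g (cl V X) : Subgroup G) : Set G) :=
  (c.le_cj_X h).trans (cj_norm (le_normalizer_cl V X))

/-- `U^g` normalises `U` -/
theorem norm_U : cj g (cl V X) ≤ normalizer ((cl V X : Subgroup G) : Set G) :=
  (c.le_X h).trans (le_normalizer_cl V X)

/-- `U` centralises `F^g` -/
theorem cent_F : cl V X ≤ centralizer ((cj g F : Subgroup G) : Set G) :=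
  (c.le_cj_X h).trans (cj_cent h.X_le)

variable [Finite G]

/-- the key step: `V^x ≤ N(V^{gy})` and `V^{gy} ≰ N(V^x)` is impossible. -/
theorem key {x y : G} (hx : x ∈ X) (hy : y ∈ X)
    (h1 : cj x V ≤ normalizer ((cj (g * y) V : Subgroup G) : Set G)) :
    cj (g * y) V ≤ normalizer ((cj x V : Subgroup G) : Set G) := by
  by_contra h2
  rw [SetLike.not_le_iff_exists] at h2
  obtain ⟨w, hw, hwn⟩ := h2
  have hwU : w ∈ cj g (cl V X) := by
    have h3 := cj_mono g (cj_le_cl (V := V) hy)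
    rw [cj_cj] at h3
    exact h3 hw
  have hwX := c.le_X h hwU
  -- `C_{V^x}(V^{gy}) ≤ F`
  have h3 : cj x V ⊓ centralizer ((cj (g * y) V : Subgroup G) : Set G) ≤ F := fun v hv =>
    h.cent_le hx hwX hwn hv.1 (mem_centralizer_iff.1 hv.2 w hw).symm
  have hnc : ¬ cj x V ≤ centralizer ((cj (g * y) V : Subgroup G) : Set G) := by
    intro h0
    apply hwn
    exact centralizer_le_normalizer _ (cent_symm h0 hw)
  -- `F^{gy}` is centralised by `V^x`
  have h4 : cj (g * y) F ≤ centralizer ((cj x V : Subgroup G) : Set G) := by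
    rw [← cj_cj, h.cj_F hy]
    exact cent_symm ((cj_le_cl hx).trans (c.cent_F h))
  have h5 := (h.nff.cj (g * y)) (cj x V) (isPGroup_cj _ h.isPGroup_V) h1
    (fun a ha => by rw [h.cj_sq x a ha]; exact one_mem _)
    (fun a ha b hb => by
      have e : a * b = b * a := (mem_centralizer_iff.1 (cj_cent (g := x) h.comm ha) b hb).symm
      rw [e, mul_inv_cancel_right, mul_inv_cancel]; exact one_mem _) hnc
  -- counting
  have h6 : (centralizer ((cj x V : Subgroup G) : Set G)).relIndex (cj (g * y) V) ≤ F.relIndex V := by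
    rw [← relIndex_cj (g * y) F V]
    exact Nat.le_of_dvd (Nat.pos_of_ne_zero index_ne_zero_of_finite)
      (relIndex_dvd_of_le_left _ h4)
  have h7 : F.relIndex V ≤ (centralizer ((cj (g * y) V : Subgroup G) : Set G)).relIndex (cj x V) := by
    rw [← relIndex_cj x F V, h.cj_F hx, ← inf_relIndex_right (centralizer _) (cj x V)]
    refine Nat.le_of_dvd (Nat.pos_of_ne_zero index_ne_zero_of_finite)
      (relIndex_dvd_of_le_left _ ?_)
    rw [inf_comm]; exact h3
  omega

/-- Lines which do not commute do not normalise each other. -/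
theorem norm {x y : G} (hx : x ∈ X) (hy : y ∈ X)
    (hn : ¬ cj x V ≤ centralizer ((cj (g * y) V : Subgroup G) : Set G)) :
    ¬ cj x V ≤ normalizer ((cj (g * y) V : Subgroup G) : Set G) ∧
      ¬ cj (g * y) V ≤ normalizer ((cj x V : Subgroup G) : Set G) := by
  have hcomm : cj x V ≤ normalizer ((cj (g * y) V : Subgroup G) : Set G) →
      cj (g * y) V ≤ normalizer ((cj x V : Subgroup G) : Set G) → False := fun h1 h2 =>
    hn (comm_of_norm (h.nff.cj _) (h.nff.cj _) (h.cj_sq _) (h.cj_sq _) (cj_cent h.comm) (cj_cent h.comm)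
      h1 h2)
  have h1 : cj x V ≤ normalizer ((cj (g * y) V : Subgroup G) : Set G) → False := fun h1 =>
    hcomm h1 (c.key h hx hy h1)
  refine ⟨h1, fun h2 => ?_⟩
  -- the symmetric statement
  have h3 := cj_norm (g := g⁻¹) h2
  rw [cj_cj, inv_mul_cancel_left, cj_cj] at h3
  have h4 := c.inv.key h hy hx h3
  have h5 := cj_norm (g := g) h4
  rw [cj_cj, mul_inv_cancel_left, cj_cj] at h5
  exact h1 h5

/-- a line `V^x` which does not centralise `U^g` meets `U^g` in a subgroup of `F` -/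
theorem inf_le {x : G} (hx : x ∈ X)
    (hn : ¬ cj x V ≤ centralizer ((cj g (cl V X) : Subgroup G) : Set G)) :
    cj x V ⊓ cj g (cl V X) ≤ F := by
  have h1 : ∃ y ∈ X, ¬ cj x V ≤ centralizer ((cj (g * y) V : Subgroup G) : Set G) := by
    by_contra hcon
    push Not at hcon
    apply hn
    refine cent_symm ?_
    unfold cl
    rw [EZero.cj_iSup]
    refine iSup_le fun y => ?_
    rw [cj_cj]
    exact cent_symm (hcon y y.2)
  obtain ⟨y, hy, hxy⟩ := h1
  have h2 := (c.norm h hx hy hxy).2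
  rw [SetLike.not_le_iff_exists] at h2
  obtain ⟨w, hw, hwn⟩ := h2
  have hwU : w ∈ cj g (cl V X) := by
    have h3 := cj_mono g (cj_le_cl (V := V) hy)
    rw [cj_cj] at h3
    exact h3 hw
  rintro v ⟨hv1, hv2⟩
  refine h.cent_le hx (c.le_X h hwU) hwn hv1 ?_
  exact (mem_centralizer_iff.1 (cj_cent (g := g) h.U_comm hv2) w hwU).symm

/-- `[U, U^g ∩ Q] ≤ F` -/
theorem comm_mem {u e : G} (hu : u ∈ cl V X) (he : e ∈ cj g (cl V X)) (heQ : e ∈ o2 X) : ⁅u, e⁆ ∈ F := by
  let K : Subgroup G :=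
    { carrier := {u | u ∈ cl V X ∧ ⁅u, e⁆ ∈ F}
      one_mem' := ⟨one_mem _, by rw [commutatorElement_one_left]; exact one_mem _⟩
      mul_mem' := by
        rintro a b ⟨ha, ha'⟩ ⟨hb, hb'⟩
        refine ⟨mul_mem ha hb, ?_⟩
        have e1 : ⁅a * b, e⁆ = (a * ⁅b, e⁆ * a⁻¹) * ⁅a, e⁆ := by
          simp only [commutatorElement_def]; group
        have h1 := mem_centralizer_iff.1 (h.X_le (h.U_le_X ha)) _ hb'
        rw [e1, ← h1, mul_inv_cancel_right]
        exact mul_mem hb' ha'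
      inv_mem' := by
        rintro a ⟨ha, ha'⟩
        refine ⟨inv_mem ha, ?_⟩
        have e1 : ⁅a⁻¹, e⁆ = a⁻¹ * ⁅a, e⁆⁻¹ * a := by
          simp only [commutatorElement_def]; group
        have h1 := mem_centralizer_iff.1 (h.X_le (h.U_le_X (inv_mem ha))) _ (inv_mem ha')
        rw [e1, ← h1, mul_assoc, inv_mul_cancel, mul_one]
        exact inv_mem ha' }
  have key : cl V X ≤ K := by
    refine cl_le fun x hx v hv => ⟨cj_le_cl hx hv, ?_⟩
    by_cases hn : cj x V ≤ centralizer ((cj g (cl V X) : Subgroup G) : Set G)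
    · have h1 := mem_centralizer_iff.1 (hn hv) e he
      have h2 : ⁅v, e⁆ = 1 := by rw [commutatorElement_eq_one_iff_mul_comm]; exact h1.symm
      rw [h2]; exact one_mem _
    · refine c.inf_le h hx hn ⟨?_, ?_⟩
      · have h1 := conj_mem' (h.o2_norm_line hx) heQ (inv_mem hv)
        have e1 : ⁅v, e⁆ = v * (e * v⁻¹ * e⁻¹) := by simp only [commutatorElement_def]; group
        rw [e1]
        exact mul_mem hv h1
      · have h1 := conj_mem' (c.U_norm h) (cj_le_cl hx hv) he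
        rw [commutatorElement_def]
        exact (cj g (cl V X)).mul_mem h1 ((cj g (cl V X)).inv_mem he)
  exact (key hu).2

omit [Finite G] in
/-- `F ∩ F^g = 1` -/
theorem inf_F : F ⊓ cj g F = ⊥ := by
  have h1 : ∃ x ∈ X, ¬ cj x V ≤ centralizer ((cj g (cl V X) : Subgroup G) : Set G) := by
    by_contra hcon
    push Not at hcon
    exact c.ncomm (cl_le hcon)
  obtain ⟨x, hx, hn⟩ := h1
  by_contra hne
  apply hn
  refine cent_symm ?_
  unfold cl
  rw [EZero.cj_iSup]
  refine iSup_le fun y => ?_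
  rw [cj_cj]
  refine h.ti' fun h0 => hne ?_
  rw [← le_bot_iff, ← h0]
  refine le_inf (inf_le_right.trans ?_) (inf_le_left.trans (h.F_le_line hx))
  rw [← h.cj_F y.2, cj_cj]
  exact cj_mono _ h.F_le

/-- `[U ∩ Q^g, U^g ∩ Q] = 1` -/
theorem comm_E {u e : G} (hu : u ∈ cl V X) (huQ : u ∈ cj g (o2 X)) (he : e ∈ cj g (cl V X))
    (heQ : e ∈ o2 X) : u * e = e * u := by
  have h1 := c.comm_mem h hu he heQ
  have h2 := c.inv.comm_mem h (u := g⁻¹ * e * g) (e := g⁻¹ * u * g) (mem_cj.1 he) (by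
    rw [mem_cj, inv_inv]
    have e1 : g * (g⁻¹ * u * g) * g⁻¹ = u := by group
    rwa [e1]) (mem_cj.1 huQ)
  have h3 : ⁅e, u⁆ ∈ cj g F := by
    rw [mem_cj]
    have e1 : g⁻¹ * ⁅e, u⁆ * g = ⁅g⁻¹ * e * g, g⁻¹ * u * g⁆ := by
      simp only [commutatorElement_def]; group
    rwa [e1]
  have h4 : ⁅u, e⁆ ∈ F ⊓ cj g F := by
    refine ⟨h1, ?_⟩
    rw [← commutatorElement_inv e u]
    exact (cj g F).inv_mem h3
  rw [c.inf_F h, mem_bot, commutatorElement_eq_one_iff_mul_comm] at h4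
  exact h4

end Crit

end Cfsg.Agent.Omega.NO3b.K0

end

section


/-!
# THEOREM K0, part 4: one noncentral chief factor

* `Crit.count` : `|E : C_E(U^g)| = 1` or `2 |E : C_E(U^g)| ≤ |U^g : U^g ∩ Q|`, `E = U ∩ Q^g`;
* `NoOv.gen` : no over-offenders on the noncentral sections;
* `Base.one` : every proper `X`-invariant subgroup of `U₀ = [U, O²(X)]` is centralised by `O²(X)`.
-/

set_option autoImplicit false

namespace Cfsg.Agent.Omega.NO3b.K0

open Subgroup Cfsg Cfsg.Agent.ZN Cfsg.Agent.ZN.ChoiceBase Cfsg.Agent.ZN.ChoiceSit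
open Cfsg.Agent.MinSimple.MinParabolic (IsMinPar)
open Cfsg.Agent.MinSimple.VModule (oddGen oddGen_le mem_oddGen le_normalizer_oddGen oddGen_le_of_sup)
open Cfsg.Agent.Omega.NO3b.EZero
open Cfsg.Agent.Omega.NO3S.NotFF (commutator_le_of_odd le_centralizer_of_commutator commutator_commutator_eq
  normalizer_commutator le_normalizer_bot)
open scoped commutatorElement

universe u

variable {G : Type u} [Group G]

theorem cent_sup (A B : Subgroup G) : centralizer ((A ⊔ B : Subgroup G) : Set G) =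
    centralizer (B : Set G) ⊓ centralizer (A : Set G) := by
  apply le_antisymm
  · exact le_inf (centralizer_le (SetLike.coe_subset_coe.2 le_sup_right))
      (centralizer_le (SetLike.coe_subset_coe.2 le_sup_left))
  · exact cent_symm (sup_le (cent_symm inf_le_right) (cent_symm inf_le_left))

theorem two_mul_le_of_lt [Finite G] {A B C D : Subgroup G} (hB : IsPGroup 2 B) (hD : IsPGroup 2 D)
    (hlt : A.relIndex B < C.relIndex D) : 2 * A.relIndex B ≤ C.relIndex D := by
  have : Fact (Nat.Prime 2) := ⟨Nat.prime_two⟩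
  obtain ⟨m, hm⟩ := hB.index (A.subgroupOf B)
  obtain ⟨n, hn⟩ := hD.index (C.subgroupOf D)
  change A.relIndex B = 2 ^ m at hm
  change C.relIndex D = 2 ^ n at hn
  rw [hm, hn] at hlt ⊢
  have h1 := (Nat.pow_lt_pow_iff_right (by norm_num : 1 < 2)).1 hlt
  calc 2 * 2 ^ m = 2 ^ (m + 1) := by ring
    _ ≤ 2 ^ n := Nat.pow_le_pow_right (by norm_num) (by omega)

theorem two_le_of_ne [Finite G] {A B : Subgroup G} (h : ¬ B ≤ A) : 2 ≤ A.relIndex B := by
  have h1 : A.relIndex B ≠ 0 := index_ne_zero_of_finite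
  have h2 : A.relIndex B ≠ 1 := fun h0 => h (relIndex_eq_one.1 h0)
  omega

namespace Crit

variable {V F T X L Q0 : Subgroup G} {g : G} (c : Crit V X Q0 g) (h : Base V F T X L Q0)
include c h

variable [Finite G]

omit c in
/-- `Q^g` normalises `V^{gy}` -/
theorem o2_norm_line {y : G} (hy : y ∈ X) :
    cj g (o2 X) ≤ normalizer ((cj (g * y) V : Subgroup G) : Set G) := by
  have h1 := cj_norm (g := g) (h.o2_norm_line hy)
  rwa [cj_cj] at h1

/-- the line by line count -/
theorem count : (centralizer ((cj g (cl V X) : Subgroup G) : Set G)).relIndex (cl V X ⊓ cj g (o2 X)) = 1 ∨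
    2 * (centralizer ((cj g (cl V X) : Subgroup G) : Set G)).relIndex (cl V X ⊓ cj g (o2 X)) ≤
      (o2 X).relIndex (cj g (cl V X)) := by
  set U' := cj g (cl V X) with hU'
  set E := cl V X ⊓ cj g (o2 X) with hE
  let P : Subgroup G → Prop := fun D => U' ⊓ o2 X ≤ D ∧ D ≤ U' ∧
    ((centralizer (D : Set G)).relIndex E = 1 ∨
      2 * (centralizer (D : Set G)).relIndex E ≤ (o2 X).relIndex D)
  have hP0 : P (U' ⊓ o2 X) := by
    refine ⟨le_rfl, inf_le_left, Or.inl (relIndex_eq_one.2 ?_)⟩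
    rintro u ⟨hu1, hu2⟩
    rw [mem_centralizer_iff]
    rintro e ⟨he1, he2⟩
    exact (c.comm_E h hu1 hu2 he1 he2).symm
  obtain ⟨D, hD, hmax⟩ := Set.exists_max_image {D : Subgroup G | P D} (fun D => Nat.card D)
    (Set.toFinite _) ⟨_, hP0⟩
  obtain ⟨hD1, hD2, hD3⟩ : P D := hD
  have hDU : D = U' := by
    by_contra hne
    have h1 : ∃ y ∈ X, ¬ cj (g * y) V ≤ D := by
      by_contra hcon
      push Not at hcon
      apply hne
      refine le_antisymm hD2 ?_
      rw [hU']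
      unfold cl
      rw [EZero.cj_iSup]
      refine iSup_le fun y => ?_
      rw [cj_cj]
      exact hcon y y.2
    obtain ⟨y, hy, hyD⟩ := h1
    set B := cj (g * y) V with hB
    have hBU : B ≤ U' := by
      have h3 := cj_mono g (cj_le_cl (V := V) hy)
      rwa [cj_cj] at h3
    have hU'ab : U' ≤ centralizer (U' : Set G) := cj_cent h.U_comm
    have hPB : P (D ⊔ B) := by
      refine ⟨hD1.trans le_sup_left, sup_le hD2 hBU, ?_⟩
      rw [cent_sup, ← relIndex_inf_mul_relIndex]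
      have hQD : (o2 X).relIndex D ≤ (o2 X).relIndex (D ⊔ B) :=
        relIndex_le_of_le_right le_sup_left index_ne_zero_of_finite
      by_cases hc : centralizer (D : Set G) ⊓ E ≤ centralizer (B : Set G)
      · rw [relIndex_eq_one.2 hc, one_mul]
        rcases hD3 with h4 | h4
        · exact Or.inl h4
        · exact Or.inr (h4.trans hQD)
      · right
        have hEU : E ≤ cl V X := inf_le_left
        have h5 := (h.nff.cj (g * y)) (centralizer (D : Set G) ⊓ E) (h.isPGroup_U.to_le (inf_le_right.trans hEU))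
          ((inf_le_right.trans inf_le_right).trans (o2_norm_line h hy))
          (fun a ha => by rw [h.U_sq a (hEU ha.2)]; exact one_mem _)
          (fun a ha b hb => by
            have e : a * b = b * a := (mem_centralizer_iff.1 (h.U_comm (hEU ha.2)) b (hEU hb.2)).symm
            rw [e, mul_inv_cancel_right, mul_inv_cancel]; exact one_mem _) hc
        have h6 := two_mul_le_of_lt (h.isPGroup_U.to_le (inf_le_right.trans hEU))
          (isPGroup_cj _ h.isPGroup_V) h5
        -- `|B : C_B(E₁)| ≤ |B : B ∩ D| ≤ |D B : D|`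
        have h7 : (centralizer ((centralizer (D : Set G) ⊓ E : Subgroup G) : Set G)).relIndex B ≤
            D.relIndex (D ⊔ B) := by
          refine le_trans (relIndex_le_of_le_left (H := D) ?_ index_ne_zero_of_finite)
            (relIndex_le_of_le_right le_sup_right index_ne_zero_of_finite)
          exact cent_symm inf_le_left
        have h8 : (centralizer (D : Set G)).relIndex E ≤ (o2 X).relIndex D := by
          rcases hD3 with h4 | h4
          · rw [h4]; exact Nat.pos_of_ne_zero index_ne_zero_of_finite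
          · omega
        have h9 : (o2 X).relIndex D * D.relIndex (D ⊔ B) ≤ (o2 X).relIndex (D ⊔ B) := by
          have h10 := relIndex_mul_relIndex (D ⊓ o2 X) D (D ⊔ B) inf_le_left le_sup_left
          rw [inf_relIndex_left] at h10
          rw [h10]
          have h11 : (D ⊔ B) ⊓ o2 X ≤ D ⊓ o2 X := by
            refine le_inf ?_ inf_le_right
            exact (inf_le_inf_right _ (sup_le hD2 hBU)).trans hD1
          have h12 := relIndex_le_of_le_left (L := D ⊔ B) h11 index_ne_zero_of_finite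
          rwa [inf_relIndex_left] at h12
        calc 2 * ((centralizer (B : Set G)).relIndex (centralizer (D : Set G) ⊓ E) *
              (centralizer (D : Set G)).relIndex E)
            = (2 * (centralizer (B : Set G)).relIndex (centralizer (D : Set G) ⊓ E)) *
              (centralizer (D : Set G)).relIndex E := by ring
          _ ≤ D.relIndex (D ⊔ B) * (o2 X).relIndex D := Nat.mul_le_mul (h6.trans h7) h8
          _ = (o2 X).relIndex D * D.relIndex (D ⊔ B) := by ring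
          _ ≤ _ := h9
    have h13 := hmax _ hPB
    have h14 : D = D ⊔ B := eq_of_le_of_card_ge le_sup_left h13
    exact hyD (le_sup_right.trans h14.ge)
  rw [hDU] at hD3
  exact hD3

/-- `C_U(U^g) ≤ Q^g` -/
theorem cent_le_o2 : cl V X ⊓ centralizer ((cj g (cl V X) : Subgroup G) : Set G) ≤ cj g (o2 X) :=
  h.le_cj_o2 (h.isPGroup_U.to_le inf_le_left) (inf_le_left.trans (c.le_cj_X h)) inf_le_right

/-- `|U : C_U(U^g)| = |E : C_E(U^g)| |U : E|` -/
theorem index_eq : (centralizer ((cj g (cl V X) : Subgroup G) : Set G)).relIndex (cl V X ⊓ cj g (o2 X)) *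
    (cj g (o2 X)).relIndex (cl V X) =
      (centralizer ((cj g (cl V X) : Subgroup G) : Set G)).relIndex (cl V X) := by
  have h1 := relIndex_inf_mul_relIndex (centralizer ((cj g (cl V X) : Subgroup G) : Set G)) (cj g (o2 X))
    (cl V X)
  rw [inf_comm (cl V X)]
  rw [h1, ← inf_relIndex_right]
  have h2 : centralizer ((cj g (cl V X) : Subgroup G) : Set G) ⊓ cj g (o2 X) ⊓ cl V X =
      centralizer ((cj g (cl V X) : Subgroup G) : Set G) ⊓ cl V X := by
    apply le_antisymm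
    · exact le_inf (inf_le_left.trans inf_le_left) inf_le_right
    · refine le_inf (le_inf inf_le_left ?_) inf_le_right
      rw [inf_comm]
      exact c.cent_le_o2 h
  rw [h2, inf_relIndex_right]

/-- `U ≰ Q^g` -/
theorem nle : ¬ cl V X ≤ cj g (o2 X) := by
  intro h0
  have h1 : ∃ x ∈ X, ∃ y ∈ X, ¬ cj x V ≤ centralizer ((cj (g * y) V : Subgroup G) : Set G) := by
    by_contra hcon
    push Not at hcon
    refine c.ncomm (cl_le fun x hx => cent_symm ?_)
    unfold cl
    rw [EZero.cj_iSup]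
    refine iSup_le fun y => ?_
    rw [cj_cj]
    exact cent_symm (hcon x hx y y.2)
  obtain ⟨x, hx, y, hy, hxy⟩ := h1
  exact (c.norm h hx hy hxy).1 (((cj_le_cl hx).trans h0).trans (o2_norm_line h hy))

/-- `|U : C_U(U^g)| < |U : U ∩ Q^g| |U^g : U^g ∩ Q|` -/
theorem index_lt : (centralizer ((cj g (cl V X) : Subgroup G) : Set G)).relIndex (cl V X) <
    (cj g (o2 X)).relIndex (cl V X) * (o2 X).relIndex (cj g (cl V X)) := by
  have h1 : 2 ≤ (cj g (o2 X)).relIndex (cl V X) := two_le_of_ne (c.nle h)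
  have h2 : 2 ≤ (o2 X).relIndex (cj g (cl V X)) := by
    have h3 := two_le_of_ne (c.inv.nle h)
    rw [← relIndex_cj g, cj_cj_inv] at h3
    exact h3
  rw [← c.index_eq h]
  rcases c.count h with h3 | h3
  · rw [h3, one_mul]
    nlinarith
  · have h4 : 0 < (centralizer ((cj g (cl V X) : Subgroup G) : Set G)).relIndex (cl V X ⊓ cj g (o2 X)) :=
      Nat.pos_of_ne_zero index_ne_zero_of_finite
    nlinarith

end Crit

/-! ### No over-offenders on sections -/

/-- No over-offenders on the noncentral sections of `X`. -/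
theorem NoOv.gen [Finite G] {X : Subgroup G} (hX : NoOv X) {N Y A D : Subgroup G} (hNY : N ≤ Y) (hYX : Y ≤ X)
    (hsq : ∀ y ∈ Y, y ^ 2 = 1) (hY : Y ≤ centralizer (Y : Set G)) (hN : X ≤ normalizer (N : Set G))
    (hYn : X ≤ normalizer (Y : Set G)) (hE : ¬ ⁅Y, oddGen X⁆ ≤ N) (hA : A ≤ X)
    (hA2 : ∀ a ∈ A, a ^ 2 ∈ o2 X) (hAc : ∀ a ∈ A, ∀ b ∈ A, a * b * a⁻¹ * b⁻¹ ∈ o2 X) (_hD : D ≤ Y)
    (hDA : ⁅D, A⁆ ≤ N) : (o2 X).relIndex A ≤ D.relIndex Y := by
  obtain ⟨Y', hY', hYmin⟩ := Set.exists_min_image {Y' : Subgroup G | N ≤ Y' ∧ Y' ≤ Y ∧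
    X ≤ normalizer (Y' : Set G) ∧ ¬ ⁅Y', oddGen X⁆ ≤ N} (fun Y' => Nat.card Y') (Set.toFinite _)
    ⟨Y, hNY, le_rfl, hYn, hE⟩
  obtain ⟨h1, h2, h3, h4⟩ := hY'
  have hne : N ≠ Y' := by
    rintro rfl
    apply h4
    rw [← le_normalizer_iff_commutator_le_left]
    exact (oddGen_le X).trans hN
  obtain ⟨N', hN', hNmax⟩ := Set.exists_max_image {N' : Subgroup G | N ≤ N' ∧ N' ≤ Y' ∧ N' ≠ Y' ∧
    X ≤ normalizer (N' : Set G)} (fun N' => Nat.card N') (Set.toFinite _) ⟨N, le_rfl, h1, hne, hN⟩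
  obtain ⟨k1, k2, k3, k4⟩ := hN'
  have hYP : IsPGroup 2 Y := fun x => ⟨1, Subtype.ext (by simpa using hsq x x.2)⟩
  have hcomm : ∀ A B : Subgroup G, A ≤ Y → B ≤ Y → A ≤ normalizer (B : Set G) := fun A B hA hB =>
    (hA.trans (hY.trans (centralizer_le hB))).trans (centralizer_le_normalizer _)
  have hN'E : ⁅N', oddGen X⁆ ≤ N := by
    by_contra h0
    have h5 := hYmin N' ⟨k1, k2.trans h2, k4, h0⟩
    exact k3 (eq_of_le_of_card_ge k2 h5)
  have hY'E : ¬ ⁅Y', oddGen X⁆ ≤ N' := by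
    intro h0
    apply h4
    exact commutator_le_of_odd (oddGen_oddGen X) (hYP.to_le h2) ((oddGen_le X).trans h3)
      ((oddGen_le X).trans hN) (hcomm _ _ h2 hNY) ((commutator_mono h0 le_rfl).trans hN'E)
  have h5 := hX N' Y' A (D ⊓ Y') k2 (h2.trans hYX) (fun y hy => hsq y (h2 hy))
    (h2.trans (hY.trans (centralizer_le h2))) k4 h3 (fun K hK1 hK2 hK3 => by
      by_cases hKY : K = Y'
      · exact Or.inr hKY
      · left
        have h6 := hNmax K ⟨k1.trans hK1, hK2, hKY, hK3⟩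
        exact (eq_of_le_of_card_ge hK1 h6).symm) hY'E hA hA2 hAc inf_le_right
    ((commutator_mono inf_le_left le_rfl).trans (hDA.trans k1))
  rw [inf_relIndex_right] at h5
  exact h5.trans (relIndex_le_of_le_right h2 index_ne_zero_of_finite)

/-- two noncentral chief factors: `|A : A ∩ Q|² ≤ |Y : C_Y(A)|` -/
theorem NoOv.two [Finite G] {X : Subgroup G} (hX : NoOv X) {N Y A : Subgroup G} (hNY : N ≤ Y) (hYX : Y ≤ X)
    (hsq : ∀ y ∈ Y, y ^ 2 = 1) (hY : Y ≤ centralizer (Y : Set G)) (hN : X ≤ normalizer (N : Set G))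
    (hYn : X ≤ normalizer (Y : Set G)) (hE : ¬ ⁅Y, oddGen X⁆ ≤ N)
    (hE' : ¬ N ≤ centralizer (oddGen X : Set G)) (hA : A ≤ X)
    (hA2 : ∀ a ∈ A, a ^ 2 ∈ o2 X) (hAc : ∀ a ∈ A, ∀ b ∈ A, a * b * a⁻¹ * b⁻¹ ∈ o2 X) :
    (o2 X).relIndex A * (o2 X).relIndex A ≤ (centralizer (A : Set G)).relIndex Y := by
  set W := centralizer (A : Set G) ⊓ Y with hW
  have hWY : W ≤ Y := inf_le_right
  -- `[N W, A] ≤ N`
  have hNW : ⁅N ⊔ W, A⁆ ≤ N := by
    rw [commutator_le]
    intro x hx a ha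
    have h1 : N ≤ normalizer (W : Set G) :=
      (hNY.trans (hY.trans (centralizer_le hWY))).trans (centralizer_le_normalizer _)
    obtain ⟨n, hn, w, hw, rfl⟩ := CTwo.mem_sup_of_le_norm h1 hx
    have h2 := mem_centralizer_iff.1 hw.1 a ha
    have e1 : ⁅n * w, a⁆ = n * (w * a * w⁻¹ * n⁻¹ * a⁻¹) := by
      simp only [commutatorElement_def]; group
    have e2 : w * a * w⁻¹ = a := by rw [← h2, mul_inv_cancel_right]
    rw [e1, e2]
    exact N.mul_mem hn (conj_mem' (hA.trans hN) ha (N.inv_mem hn))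
  have h1 := hX.gen hNY hYX hsq hY hN hYn hE hA hA2 hAc (sup_le hNY hWY) hNW
  have h2 := hX.gen (N := ⊥) (Y := N) (D := W ⊓ N) bot_le (hNY.trans hYX) (fun y hy => hsq y (hNY hy))
    (hNY.trans (hY.trans (centralizer_le hNY))) (le_normalizer_bot X) hN
    (fun h0 => hE' (commutator_eq_bot_iff_le_centralizer.1 (le_bot_iff.1 h0))) hA hA2 hAc inf_le_right
    ((commutator_mono (inf_le_left.trans inf_le_left) le_rfl).trans
      (commutator_eq_bot_iff_le_centralizer.2 (by exact le_rfl)).le)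
  rw [inf_relIndex_right] at h2
  have h3 : W.relIndex N ≤ W.relIndex (N ⊔ W) :=
    relIndex_le_of_le_right le_sup_left index_ne_zero_of_finite
  have h4 := relIndex_mul_relIndex W (N ⊔ W) Y le_sup_right (sup_le hNY hWY)
  have h5 : W.relIndex Y = (centralizer (A : Set G)).relIndex Y := inf_relIndex_right _ _
  rw [← h5, ← h4]
  exact Nat.mul_le_mul (h2.trans h3) h1

end Cfsg.Agent.Omega.NO3b.K0

end
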